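import Mathlib.GroupTheory.Index
import Mathlib.GroupTheory.OrderOfElement
import Mathlib.GroupTheory.Perm.Cycle.Type
import Mathlib.GroupTheory.GroupAction.ConjAct
import Mathlib.Tactic
set_option linter.all false

/-!
# The Brauer-Suzuki-Wall configuration

`BSWData A t s`: the centraliser of the involution `t` is the generalised dihedral group
`A ∪ s A`, where `A` is abelian, of even order, a trivial intersection subgroup, inverted by the
involution `s`, and all involutions are conjugate.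
-/

set_option autoImplicit false

namespace Cfsg.Agent.Classification.BSW.Setup

variable {G : Type*} [Group G]

/-- The Brauer-Suzuki-Wall configuration. -/
structure BSWData (A : Subgroup G) (t s : G) : Prop where
  comm : ∀ a ∈ A, ∀ b ∈ A, a * b = b * a
  t_mem : t ∈ A
  t_ne : t ≠ 1
  t_sq : t * t = 1
  s_sq : s * s = 1
  s_not : s ∉ A
  inv : ∀ a ∈ A, s * a * s⁻¹ = a⁻¹
  cent : ∀ g, g * t = t * g → g ∈ A ∨ s * g ∈ A
  ti : ∀ g, ∀ x ∈ A, x ≠ 1 → g * x * g⁻¹ ∈ A → g ∈ A ∨ s * g ∈ A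
  conj : ∀ u : G, u ≠ 1 → u * u = 1 → ∃ g, g * u * g⁻¹ = t

namespace BSWData

variable {A : Subgroup G} {t s : G} (h : BSWData A t s)
include h

theorem s_inv : s⁻¹ = s := by
  rw [inv_eq_iff_mul_eq_one, h.s_sq]

theorem t_inv : t⁻¹ = t := by
  rw [inv_eq_iff_mul_eq_one, h.t_sq]

theorem s_ne : s ≠ 1 := fun h1 => h.s_not (h1 ▸ A.one_mem)

theorem s_mul (a : G) (ha : a ∈ A) : s * a = a⁻¹ * s := by
  rw [← h.inv a ha]; group

theorem mul_s (a : G) (ha : a ∈ A) : a * s = s * a⁻¹ := by
  rw [h.s_mul _ (inv_mem ha), inv_inv]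

theorem sa_sq (a : G) (ha : a ∈ A) : (s * a) * (s * a) = 1 := by
  rw [← mul_assoc, mul_assoc s a s, h.mul_s a ha, ← mul_assoc, h.s_sq, one_mul, inv_mul_cancel]

theorem sa_ne (a : G) (ha : a ∈ A) : s * a ≠ 1 := by
  intro h1
  apply h.s_not
  rw [mul_eq_one_iff_eq_inv] at h1
  rw [h1]
  exact inv_mem ha

theorem s_mul_not_mem (a : G) (ha : a ∈ A) : s * a ∉ A := by
  intro h1
  exact h.s_not ((Subgroup.mul_mem_cancel_right A ha).1 h1)

/-- elements `g` with `s g ∈ A` are involutions -/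
theorem sq_of_s_mul_mem {g : G} (hg : s * g ∈ A) : g * g = 1 := by
  have h1 : g = s * (s * g) := by rw [← mul_assoc, h.s_sq, one_mul]
  rw [h1]
  exact h.sa_sq _ hg

theorem ne_of_s_mul_mem {g : G} (hg : s * g ∈ A) : g ≠ 1 := by
  rintro rfl
  rw [mul_one] at hg
  exact h.s_not hg

theorem not_mem_of_s_mul_mem {g : G} (hg : s * g ∈ A) : g ∉ A := by
  intro h1
  exact h.s_not ((Subgroup.mul_mem_cancel_right A h1).1 hg)

theorem conj_eq_of_mem {g : G} (hg : g ∈ A) {a : G} (ha : a ∈ A) : g * a * g⁻¹ = a := by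
  rw [h.comm g hg a ha, mul_assoc, mul_inv_cancel, mul_one]

theorem conj_eq_of_s_mul_mem {g : G} (hg : s * g ∈ A) {a : G} (ha : a ∈ A) :
    g * a * g⁻¹ = a⁻¹ := by
  have h2 : g * a * g⁻¹ = s⁻¹ * ((s * g) * a * (s * g)⁻¹) * s := by group
  rw [h2, h.conj_eq_of_mem hg ha, h.s_inv]
  have := h.inv a ha
  rw [h.s_inv] at this
  exact this

/-- elements of `A ∪ s A` normalise `A` -/
theorem conj_mem {g : G} (hg : g ∈ A ∨ s * g ∈ A) {a : G} (ha : a ∈ A) : g * a * g⁻¹ ∈ A := by
  rcases hg with hg | hg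
  · rw [h.conj_eq_of_mem hg ha]; exact ha
  · rw [h.conj_eq_of_s_mul_mem hg ha]; exact inv_mem ha

theorem conj_t {g : G} (hg : g ∈ A ∨ s * g ∈ A) : g * t * g⁻¹ = t := by
  rcases hg with hg | hg
  · rw [h.conj_eq_of_mem hg h.t_mem]
  · rw [h.conj_eq_of_s_mul_mem hg h.t_mem, h.t_inv]

/-- membership in the centraliser of `t` -/
theorem commute_t_iff (g : G) : g * t = t * g ↔ (g ∈ A ∨ s * g ∈ A) :=
  ⟨h.cent g, fun hg => by rw [← mul_inv_eq_iff_eq_mul]; exact h.conj_t hg⟩

theorem t_unique {a : G} (ha : a ∈ A) (h1 : a ≠ 1) (h2 : a * a = 1) : a = t := by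
  obtain ⟨g, hg⟩ := h.conj a h1 h2
  have h3 := h.ti g a ha h1 (hg ▸ h.t_mem)
  have hai : a⁻¹ = a := by rw [inv_eq_iff_mul_eq_one, h2]
  rcases h3 with h3 | h3
  · rw [h.conj_eq_of_mem h3 ha] at hg; exact hg
  · rw [h.conj_eq_of_s_mul_mem h3 ha, hai] at hg; exact hg

/-- elements commuting with a nontrivial element of `A` -/
theorem mem_or_of_commute {a g : G} (ha : a ∈ A) (h1 : a ≠ 1) (hg : g * a = a * g) :
    g ∈ A ∨ s * g ∈ A := by
  refine h.ti g a ha h1 ?_
  rw [hg, mul_assoc, mul_inv_cancel, mul_one]; exact ha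

theorem ti_inv {g x : G} (hx : g⁻¹ * x * g ∈ A) (h1 : x ≠ 1) (hxA : x ∈ A) :
    g ∈ A ∨ s * g ∈ A := by
  refine h.ti g (g⁻¹ * x * g) hx ?_ ?_
  · intro h2
    apply h1
    have : x = g * (g⁻¹ * x * g) * g⁻¹ := by group
    rw [this, h2]; group
  · have : g * (g⁻¹ * x * g) * g⁻¹ = x := by group
    rw [this]; exact hxA

theorem conj_inv_mem_iff {g x : G} (h1 : x ≠ 1) (hxA : x ∈ A) :
    g⁻¹ * x * g ∈ A ↔ (g ∈ A ∨ s * g ∈ A) := by
  constructor
  · intro hx; exact h.ti_inv hx h1 hxA
  · intro hg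
    rcases hg with hg | hg
    · exact A.mul_mem (A.mul_mem (A.inv_mem hg) hxA) hg
    · have h3 : g⁻¹ = g := by rw [inv_eq_iff_mul_eq_one, h.sq_of_s_mul_mem hg]
      have := h.conj_mem (Or.inr hg) hxA
      rw [h3] at this ⊢
      exact this

end BSWData

/-- `x` is conjugate into `A` -/
def ConjIn (A : Subgroup G) (x : G) : Prop := ∃ g : G, g * x * g⁻¹ ∈ A

theorem conjIn_conj {A : Subgroup G} {x : G} (k : G) : ConjIn A (k * x * k⁻¹) ↔ ConjIn A x := by
  constructor
  · rintro ⟨g, hg⟩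
    refine ⟨g * k, ?_⟩
    have : g * k * x * (g * k)⁻¹ = g * (k * x * k⁻¹) * g⁻¹ := by group
    rw [this]; exact hg
  · rintro ⟨g, hg⟩
    refine ⟨g * k⁻¹, ?_⟩
    have : g * k⁻¹ * (k * x * k⁻¹) * (g * k⁻¹)⁻¹ = g * x * g⁻¹ := by group
    rw [this]; exact hg

theorem conjIn_of_mem {A : Subgroup G} {x : G} (hx : x ∈ A) : ConjIn A x := ⟨1, by simpa using hx⟩

theorem conjIn_one (A : Subgroup G) : ConjIn A (1 : G) := conjIn_of_mem A.one_mem

theorem conjIn_inv {A : Subgroup G} {x : G} : ConjIn A x⁻¹ ↔ ConjIn A x := by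
  constructor
  · rintro ⟨g, hg⟩
    refine ⟨g, ?_⟩
    have := A.inv_mem hg
    have h2 : (g * x⁻¹ * g⁻¹)⁻¹ = g * x * g⁻¹ := by group
    rwa [h2] at this
  · rintro ⟨g, hg⟩
    refine ⟨g, ?_⟩
    have := A.inv_mem hg
    have h2 : (g * x * g⁻¹)⁻¹ = g * x⁻¹ * g⁻¹ := by group
    rwa [h2] at this

namespace BSWData

variable {A : Subgroup G} {t s : G} (h : BSWData A t s)
include h

theorem conjIn_of_involution {u : G} (h1 : u ≠ 1) (h2 : u * u = 1) : ConjIn A u := by
  obtain ⟨g, hg⟩ := h.conj u h1 h2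
  exact ⟨g, hg ▸ h.t_mem⟩

/-- An element commuting with a non-trivial element of a conjugate of `A` is conjugate
into `A`. -/
theorem conjIn_of_commute {x y : G} (hy : ConjIn A y) (hy1 : y ≠ 1) (hxy : x * y = y * x) :
    ConjIn A x := by
  obtain ⟨g, hg⟩ := hy
  have h1 : g * y * g⁻¹ ≠ 1 := by
    intro h2
    apply hy1
    have : y = g⁻¹ * (g * y * g⁻¹) * g := by group
    rw [this, h2]; group
  have h2 : (g * x * g⁻¹) * (g * y * g⁻¹) = (g * y * g⁻¹) * (g * x * g⁻¹) := by
    have e1 : (g * x * g⁻¹) * (g * y * g⁻¹) = g * (x * y) * g⁻¹ := by group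
    have e2 : (g * y * g⁻¹) * (g * x * g⁻¹) = g * (y * x) * g⁻¹ := by group
    rw [e1, e2, hxy]
  rcases h.mem_or_of_commute hg h1 h2 with h3 | h3
  · exact ⟨g, h3⟩
  · have := h.conjIn_of_involution (h.ne_of_s_mul_mem h3) (h.sq_of_s_mul_mem h3)
    exact (conjIn_conj g).1 this

end BSWData

section count

variable [Fintype G]

open scoped Classical in
/-- the number of involutions `u` such that `u x` is an involution -/
noncomputable def beta (x : G) : ℕ :=
  (Finset.univ.filter (fun u : G => (u ≠ 1 ∧ u * u = 1) ∧ (u * x ≠ 1 ∧ (u * x) * (u * x) = 1))).card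

open scoped Classical in
theorem beta_def (x : G) : beta x =
  (Finset.univ.filter (fun u : G => (u ≠ 1 ∧ u * u = 1) ∧
    (u * x ≠ 1 ∧ (u * x) * (u * x) = 1))).card := rfl

open scoped Classical in
/-- the number of involutions -/
noncomputable def numInv (G : Type*) [Group G] [Fintype G] : ℕ :=
  (Finset.univ.filter (fun u : G => u ≠ 1 ∧ u * u = 1)).card

open scoped Classical in
theorem numInv_def : numInv G = (Finset.univ.filter (fun u : G => u ≠ 1 ∧ u * u = 1)).card := rfl

theorem beta_conj (x k : G) : beta (k * x * k⁻¹) = beta x := by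
  classical
  rw [beta_def, beta_def]
  symm
  refine Finset.card_equiv (MulAut.conj k).toEquiv (fun u => ?_)
  have e0 : (MulAut.conj k).toEquiv u = k * u * k⁻¹ := rfl
  rw [Finset.mem_filter, Finset.mem_filter, e0]
  have key : ∀ z : G, k * z * k⁻¹ = 1 ↔ z = 1 := by
    intro z
    constructor
    · intro hz
      have : z = k⁻¹ * (k * z * k⁻¹) * k := by group
      rw [this, hz]; group
    · rintro rfl; group
  have e1 : k * u * k⁻¹ * (k * u * k⁻¹) = k * (u * u) * k⁻¹ := by group
  have e2 : k * u * k⁻¹ * (k * x * k⁻¹) = k * (u * x) * k⁻¹ := by group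
  have e3 : k * u * k⁻¹ * (k * x * k⁻¹) * (k * u * k⁻¹ * (k * x * k⁻¹)) =
    k * (u * x * (u * x)) * k⁻¹ := by group
  rw [e3, e2, e1, Ne, Ne, Ne, Ne, key, key, key, key]
  simp only [Finset.mem_univ]

theorem beta_pos_iff (x : G) : beta x ≠ 0 ↔
    ∃ u : G, (u ≠ 1 ∧ u * u = 1) ∧ (u * x ≠ 1 ∧ (u * x) * (u * x) = 1) := by
  classical
  rw [beta_def, Finset.card_ne_zero]
  constructor
  · rintro ⟨u, hu⟩
    exact ⟨u, (Finset.mem_filter.1 hu).2⟩
  · rintro ⟨u, hu⟩
    exact ⟨u, Finset.mem_filter.2 ⟨Finset.mem_univ _, hu⟩⟩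

open scoped Classical in
theorem card_mem (A : Subgroup G) :
    (Finset.univ.filter (fun g : G => g ∈ A)).card = Nat.card A := by
  rw [Nat.card_eq_fintype_card, Fintype.card_subtype]

namespace BSWData

variable {A : Subgroup G} {t s : G} (h : BSWData A t s)
include h

open scoped Classical in
omit h in
theorem card_smem (A : Subgroup G) (s : G) : (Finset.univ.filter (fun g : G => s * g ∈ A)).card = Nat.card A := by
  rw [← card_mem A]
  refine Finset.card_equiv (Equiv.mulLeft s) (fun g => ?_)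
  simp

open scoped Classical in
theorem card_cent :
    (Finset.univ.filter (fun g : G => g ∈ A ∨ s * g ∈ A)).card = 2 * Nat.card A := by
  rw [Finset.filter_or, Finset.card_union_of_disjoint, card_mem, card_smem A s, two_mul]
  rw [Finset.disjoint_filter]
  intro g _ hg hg'
  exact h.not_mem_of_s_mul_mem hg' hg

theorem beta_eq {a : G} (ha : a ∈ A) (ha1 : a ≠ 1) : beta a = Nat.card A := by
  classical
  rw [beta_def, ← card_smem A s]
  congr 1
  ext u
  rw [Finset.mem_filter, Finset.mem_filter]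
  constructor
  · rintro ⟨-, ⟨hu1, hu2⟩, hu3, hu4⟩
    refine ⟨Finset.mem_univ _, ?_⟩
    have hui : u⁻¹ = u := by rw [inv_eq_iff_mul_eq_one, hu2]
    have h1 : u * a * u⁻¹ = a⁻¹ := by
      rw [hui, eq_inv_iff_mul_eq_one, mul_assoc, mul_assoc]
      have : u * (a * (u * a)) = u * a * (u * a) := by group
      rw [this, hu4]
    have h2 := h.ti u a ha ha1 (h1 ▸ inv_mem ha)
    rcases h2 with h2 | h2
    · exfalso
      rw [h.conj_eq_of_mem h2 ha] at h1
      have h3 : a * a = 1 := by rw [← eq_inv_iff_mul_eq_one]; exact h1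
      have h4 := h.t_unique ha ha1 h3
      have h5 := h.t_unique h2 hu1 hu2
      apply hu3
      rw [h4, h5, h.t_sq]
    · exact h2
  · rintro ⟨-, hu⟩
    have h1 : s * (u * a) ∈ A := by rw [← mul_assoc]; exact A.mul_mem hu ha
    exact ⟨Finset.mem_univ _, ⟨h.ne_of_s_mul_mem hu, h.sq_of_s_mul_mem hu⟩,
      h.ne_of_s_mul_mem h1, h.sq_of_s_mul_mem h1⟩

theorem beta_eq_of_conjIn {x : G} (hx : ConjIn A x) (hx1 : x ≠ 1) : beta x = Nat.card A := by
  obtain ⟨g, hg⟩ := hx
  rw [← beta_conj x g]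
  apply h.beta_eq hg
  intro h2
  apply hx1
  have : x = g⁻¹ * (g * x * g⁻¹) * g := by group
  rw [this, h2]; group

theorem card_eq : Nat.card G = 2 * Nat.card A * numInv G := by
  classical
  -- count pairs (g, u) with g u g⁻¹ = t
  have h1 : ∑ u ∈ Finset.univ.filter (fun u : G => u ≠ 1 ∧ u * u = 1),
      (Finset.univ.filter (fun g : G => g⁻¹ * t * g = u)).card = Fintype.card G := by
    rw [← Finset.card_univ]
    symm
    refine Finset.card_eq_sum_card_fiberwise (fun g _ => ?_)
    rw [Finset.mem_coe, Finset.mem_filter]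
    refine ⟨Finset.mem_univ _, ?_, ?_⟩
    · intro h2
      apply h.t_ne
      have : t = g * (g⁻¹ * t * g) * g⁻¹ := by group
      rw [this, h2]; group
    · have : g⁻¹ * t * g * (g⁻¹ * t * g) = g⁻¹ * (t * t) * g := by group
      rw [this, h.t_sq]; group
  have h2 : ∀ u ∈ Finset.univ.filter (fun u : G => u ≠ 1 ∧ u * u = 1),
      (Finset.univ.filter (fun g : G => g⁻¹ * t * g = u)).card = 2 * Nat.card A := by
    intro u hu
    rw [Finset.mem_filter] at hu
    obtain ⟨k, hk⟩ := h.conj u hu.2.1 hu.2.2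
    rw [← h.card_cent]
    refine Finset.card_equiv (Equiv.mulRight k⁻¹) (fun g => ?_)
    rw [Finset.mem_filter, Finset.mem_filter]
    simp only [Finset.mem_univ, true_and, Equiv.coe_mulRight]
    rw [← h.commute_t_iff]
    have e1 : u = k⁻¹ * t * k := by rw [← hk]; group
    rw [e1]
    constructor
    · intro h3
      have h4 : (g * k⁻¹)⁻¹ * t * (g * k⁻¹) = t := by
        have : (g * k⁻¹)⁻¹ * t * (g * k⁻¹) = k * (g⁻¹ * t * g) * k⁻¹ := by group
        rw [this, h3]; group
      have h5 : t * (g * k⁻¹) = (g * k⁻¹) * ((g * k⁻¹)⁻¹ * t * (g * k⁻¹)) := by group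
      rw [h5, h4]
    · intro h3
      have : g⁻¹ * t * g = k⁻¹ * ((g * k⁻¹)⁻¹ * (t * (g * k⁻¹))) * k := by group
      rw [this, ← h3]; group
  rw [Finset.sum_congr rfl h2, Finset.sum_const, smul_eq_mul, ← numInv_def] at h1
  rw [Nat.card_eq_fintype_card, ← h1, mul_comm]

open scoped Classical in
theorem card_conjIn :
    (Finset.univ.filter (fun x : G => x ≠ 1 ∧ ConjIn A x)).card = numInv G * (Nat.card A - 1) := by
  set T := Finset.univ.filter (fun x : G => x ≠ 1 ∧ ConjIn A x) with hT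
  -- double count pairs (x, g) with x ≠ 1, g⁻¹ x g ∈ A
  have h1 : ∑ x ∈ T, (Finset.univ.filter (fun g : G => g⁻¹ * x * g ∈ A)).card =
      T.card * (2 * Nat.card A) := by
    rw [Finset.sum_const_nat]
    intro x hx
    rw [hT, Finset.mem_filter] at hx
    obtain ⟨-, hx1, k, hk⟩ := hx
    rw [← h.card_cent]
    refine Finset.card_equiv (Equiv.mulLeft k) (fun g => ?_)
    rw [Finset.mem_filter, Finset.mem_filter]
    simp only [Finset.mem_univ, true_and, Equiv.coe_mulLeft]
    rw [← h.conj_inv_mem_iff (g := k * g) (x := k * x * k⁻¹) ?_ hk]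
    · have : (k * g)⁻¹ * (k * x * k⁻¹) * (k * g) = g⁻¹ * x * g := by group
      rw [this]
    · intro h2
      apply hx1
      have : x = k⁻¹ * (k * x * k⁻¹) * k := by group
      rw [this, h2]; group
  have h2 : ∑ x ∈ T, (Finset.univ.filter (fun g : G => g⁻¹ * x * g ∈ A)).card =
      Fintype.card G * (Nat.card A - 1) := by
    have h3 : ∀ x ∈ T, (Finset.univ.filter (fun g : G => g⁻¹ * x * g ∈ A)).card =
      ∑ g : G, if g⁻¹ * x * g ∈ A then 1 else 0 := by
      intro x _
      rw [Finset.card_filter]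
    rw [Finset.sum_congr rfl h3, Finset.sum_comm]
    have h4 : ∀ g : G, (∑ x ∈ T, if g⁻¹ * x * g ∈ A then 1 else 0) = Nat.card A - 1 := by
      intro g
      rw [← Finset.card_filter, hT, Finset.filter_filter]
      have h5 : (Finset.univ.filter (fun a : G => a ∈ A ∧ a ≠ 1)).card = Nat.card A - 1 := by
        rw [← card_mem A]
        have : Finset.univ.filter (fun a : G => a ∈ A ∧ a ≠ 1) =
          (Finset.univ.filter (fun a : G => a ∈ A)).erase 1 := by
          ext a
          simp [Finset.mem_erase, and_comm]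
        rw [this, Finset.card_erase_of_mem]
        simp
      rw [← h5]
      refine Finset.card_equiv (MulAut.conj g⁻¹).toEquiv (fun x => ?_)
      have e0 : (MulAut.conj g⁻¹).toEquiv x = g⁻¹ * x * g := by
        show g⁻¹ * x * g⁻¹⁻¹ = _
        rw [inv_inv]
      rw [Finset.mem_filter, Finset.mem_filter, e0]
      simp only [Finset.mem_univ, true_and]
      constructor
      · rintro ⟨⟨hx1, -⟩, hx3⟩
        refine ⟨hx3, ?_⟩
        intro h2
        apply hx1
        have : x = g * (g⁻¹ * x * g) * g⁻¹ := by group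
        rw [this, h2]; group
      · rintro ⟨hx3, hx1⟩
        refine ⟨⟨?_, ?_⟩, hx3⟩
        · rintro rfl
          apply hx1
          group
        · exact ⟨g⁻¹, by rwa [inv_inv]⟩
    rw [Finset.sum_congr rfl (fun g _ => h4 g), Finset.sum_const, smul_eq_mul, Finset.card_univ]
  rw [h1] at h2
  rw [← Nat.card_eq_fintype_card, h.card_eq] at h2
  have hA : 0 < 2 * Nat.card A := by
    have := Nat.card_pos (α := A)
    omega
  have h3 : (2 * Nat.card A) * T.card = (2 * Nat.card A) * (numInv G * (Nat.card A - 1)) := by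
    rw [mul_comm, h2]; ring
  exact Nat.eq_of_mul_eq_mul_left hA h3

end BSWData

theorem odd_numInv (h2 : ∃ u : G, u ≠ 1 ∧ u * u = 1) : Odd (numInv G) := by
  classical
  -- the number of solutions of x * x = 1 is even
  have h1 : Even (Fintype.card G) := by
    obtain ⟨u, hu1, hu2⟩ := h2
    have h3 : orderOf u = 2 := orderOf_eq_prime (by rw [pow_two, hu2]) hu1
    have := orderOf_dvd_card (x := u)
    rw [h3] at this
    exact (even_iff_two_dvd).2 this
  have h3 : Even (Finset.univ.filter (fun u : G => u * u = 1)).card := by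
    have h4 : (Finset.univ.filter (fun u : G => u * u = 1)).card +
      (Finset.univ.filter (fun u : G => ¬ (u * u = 1))).card = Fintype.card G := by
      rw [Finset.card_filter_add_card_filter_not]; rfl
    have h5 : Even (Finset.univ.filter (fun u : G => ¬ (u * u = 1))).card := by
      have h6 := Equiv.Perm.two_dvd_card_support (σ := Equiv.inv G) (by ext x; simp [pow_two])
      have h7 : (Equiv.inv G).support = Finset.univ.filter (fun u : G => ¬ (u * u = 1)) := by
        ext u
        rw [Equiv.Perm.mem_support, Finset.mem_filter]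
        simp only [Equiv.inv_apply, Finset.mem_univ, true_and, ne_eq, inv_eq_iff_mul_eq_one]
      rw [h7] at h6
      exact even_iff_two_dvd.2 h6
    rw [← h4] at h1
    exact (Nat.even_add.1 h1).2 h5
  have h6 : Finset.univ.filter (fun u : G => u ≠ 1 ∧ u * u = 1) =
      (Finset.univ.filter (fun u : G => u * u = 1)).erase 1 := by
    ext a
    simp [Finset.mem_erase]
  rw [numInv_def, h6, Finset.card_erase_of_mem (by simp)]
  have h7 : 0 < (Finset.univ.filter (fun u : G => u * u = 1)).card :=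
    Finset.card_pos.2 ⟨1, by simp⟩
  exact Nat.Even.sub_odd h7 h3 odd_one

end count

end Cfsg.Agent.Classification.BSW.Setup
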