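import Cfsg.Agent.Classification.BSW.Theta
import Cfsg.Agent.S0145
import Mathlib.Tactic
import Mathlib.Analysis.Complex.Basic
set_option linter.all false

-- part: Classification/BSW/BetaSum
section
/-!
# Character formula for the number of ways to write an element as a product of two involutions
-/

set_option autoImplicit false

open scoped ComplexConjugate
open Cfsg

namespace Cfsg.Agent.Classification.BSW.BetaSum

open Cfsg.Agent.Characters.Core Cfsg.Agent.Characters.Linear Cfsg.Agent.Characters.ClassMul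
open Cfsg.Agent.Classification.BSW.Setup Cfsg.Agent.Classification.BSW.Theta

variable {G : Type*} [Group G] [Fintype G] {A : Subgroup G} {t s : G} (h : BSWData A t s)
include h

omit [Fintype G] in
theorem isConj_t_iff (u : G) : IsConj t u ↔ (u ≠ 1 ∧ u * u = 1) := by
  constructor
  · intro hu
    obtain ⟨c, hc⟩ := isConj_iff.1 hu
    constructor
    · rintro rfl
      apply h.t_ne
      have : t = c⁻¹ * (c * t * c⁻¹) * c := by group
      rw [this, hc]; group
    · rw [← hc]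
      have : c * t * c⁻¹ * (c * t * c⁻¹) = c * (t * t) * c⁻¹ := by group
      rw [this, h.t_sq]; group
  · rintro ⟨h1, h2⟩
    obtain ⟨g, hg⟩ := h.conj u h1 h2
    exact (isConj_iff.2 ⟨g, hg⟩).symm

theorem card_centralizer : Nat.card (Subgroup.centralizer ({t} : Set G)) = 2 * Nat.card A := by
  classical
  rw [← h.card_cent, Nat.card_eq_fintype_card, Fintype.card_subtype]
  congr 1
  ext g
  rw [Finset.mem_filter, Finset.mem_filter, Subgroup.mem_centralizer_singleton_iff,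
    ← h.commute_t_iff]

omit [Fintype G] in
theorem char_t_real (χ : IrrCharacter G) [Finite G] : conj ((χ : G → ℂ) t) = (χ : G → ℂ) t := by
  rw [← isCharacter_apply_inv (isIrr_isCharacter χ.2) t, h.t_inv]

omit h [Fintype G] in
theorem char_one_real (χ : IrrCharacter G) [Finite G] :
    conj ((χ : G → ℂ) 1) = (χ : G → ℂ) 1 := by
  rw [← isCharacter_apply_inv (isIrr_isCharacter χ.2) 1, inv_one]

theorem card_pairs (z : G) :
    Nat.card {p : G × G // IsConj t p.1 ∧ IsConj t p.2 ∧ p.1 * p.2 = z} = beta z := by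
  classical
  rw [beta_def, Nat.card_eq_fintype_card, Fintype.card_subtype]
  refine Finset.card_bij (fun p _ => p.1) ?_ ?_ ?_
  · rintro ⟨u, w⟩ hp
    rw [Finset.mem_filter] at hp
    obtain ⟨-, h1, h2, h3⟩ := hp
    simp only at h1 h2 h3
    have h1' := (isConj_t_iff h u).1 h1
    have h2' := (isConj_t_iff h w).1 h2
    rw [Finset.mem_filter]
    have e : u * z = w := by rw [← h3, ← mul_assoc, h1'.2, one_mul]
    refine ⟨Finset.mem_univ _, h1', ?_⟩
    rw [e]; exact h2'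
  · rintro ⟨u, w⟩ hp ⟨u', w'⟩ hp' he
    rw [Finset.mem_filter] at hp hp'
    simp only at he hp hp'
    subst he
    have : w = w' := by
      have := hp.2.2.2.trans hp'.2.2.2.symm
      exact mul_left_cancel this
    rw [this]
  · intro u hu
    rw [Finset.mem_filter] at hu
    refine ⟨(u, u * z), ?_, rfl⟩
    rw [Finset.mem_filter]
    refine ⟨Finset.mem_univ _, (isConj_t_iff h _).2 hu.2.1, (isConj_t_iff h _).2 hu.2.2, ?_⟩
    show u * (u * z) = z
    rw [← mul_assoc, hu.2.1.2, one_mul]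

/-- the class function `β` in terms of irreducible characters -/
theorem beta_formula [Fintype (IrrCharacter G)] (z : G) :
    4 * (Nat.card A : ℂ) ^ 2 * (beta z : ℂ) = (Nat.card G : ℂ) *
      ∑ χ : IrrCharacter G, (χ : G → ℂ) t ^ 2 * (χ : G → ℂ) z / (χ : G → ℂ) 1 := by
  have h1 := card_conj_mul_conj t t z
  rw [card_conj_mul_conj_eq, card_pairs h, card_centralizer h] at h1
  have h2 := congrArg conj h1
  rw [map_natCast, map_mul, map_natCast, map_sum] at h2
  have h3 : ∀ χ : IrrCharacter G, conj ((χ : G → ℂ) t * (χ : G → ℂ) t * conj ((χ : G → ℂ) z) /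
      (χ : G → ℂ) 1) = (χ : G → ℂ) t ^ 2 * (χ : G → ℂ) z / (χ : G → ℂ) 1 := by
    intro χ
    rw [map_div₀, map_mul, map_mul, char_t_real h, char_one_real, Complex.conj_conj, pow_two]
  rw [Finset.sum_congr rfl (fun χ _ => h3 χ)] at h2
  rw [← h2]
  push_cast
  ring

theorem sum_v_beta [Fintype (IrrCharacter G)] (l : A →* ℂˣ) (hl : l ≠ 1) :
    (Nat.card G : ℂ) *
      ∑ χ : IrrCharacter G, (v l χ : ℂ) * ((χ : G → ℂ) t ^ 2 / (χ : G → ℂ) 1) =
      4 * (Nat.card A : ℂ) ^ 3 := by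
  classical
  have hm : (Nat.card A : ℂ) ≠ 0 := card_ne_zero_complex
  have h1 : ∑ χ : IrrCharacter G, (v l χ : ℂ) * ((χ : G → ℂ) t ^ 2 / (χ : G → ℂ) 1) =
      (Nat.card A : ℂ)⁻¹ * ∑ a : A, (1 - (((l a)⁻¹ : ℂˣ) : ℂ)) *
        ∑ χ : IrrCharacter G, (χ : G → ℂ) t ^ 2 * (χ : G → ℂ) a / (χ : G → ℂ) 1 := by
    simp only [v_eq']
    have : ∀ χ : IrrCharacter G, (Nat.card A : ℂ)⁻¹ *
      (∑ a : A, (1 - (((l a)⁻¹ : ℂˣ) : ℂ)) * ((χ : G → ℂ) a)) *
        ((χ : G → ℂ) t ^ 2 / (χ : G → ℂ) 1) = (Nat.card A : ℂ)⁻¹ *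
      ∑ a : A, ((1 - (((l a)⁻¹ : ℂˣ) : ℂ)) * ((χ : G → ℂ) t ^ 2 * (χ : G → ℂ) a /
        (χ : G → ℂ) 1)) := by
      intro χ
      rw [mul_assoc, Finset.sum_mul]
      congr 1
      refine Finset.sum_congr rfl (fun a _ => ?_)
      ring
    rw [Finset.sum_congr rfl (fun χ _ => this χ), ← Finset.mul_sum, Finset.sum_comm]
    congr 1
    refine Finset.sum_congr rfl (fun a _ => ?_)
    rw [Finset.mul_sum]
  rw [h1]
  have h2 : ∀ a : A, (1 - (((l a)⁻¹ : ℂˣ) : ℂ)) *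
      ((Nat.card G : ℂ) * ∑ χ : IrrCharacter G, (χ : G → ℂ) t ^ 2 * (χ : G → ℂ) a /
        (χ : G → ℂ) 1) = (1 - (((l a)⁻¹ : ℂˣ) : ℂ)) * (4 * (Nat.card A : ℂ) ^ 3) := by
    intro a
    by_cases ha : a = 1
    · subst ha; simp
    · rw [← beta_formula h, h.beta_eq a.2 (fun h3 => ha (Subtype.ext h3))]
      ring
  calc (Nat.card G : ℂ) * ((Nat.card A : ℂ)⁻¹ * ∑ a : A, (1 - (((l a)⁻¹ : ℂˣ) : ℂ)) *
        ∑ χ : IrrCharacter G, (χ : G → ℂ) t ^ 2 * (χ : G → ℂ) a / (χ : G → ℂ) 1)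
      = (Nat.card A : ℂ)⁻¹ * ∑ a : A, (1 - (((l a)⁻¹ : ℂˣ) : ℂ)) *
      ((Nat.card G : ℂ) * ∑ χ : IrrCharacter G, (χ : G → ℂ) t ^ 2 * (χ : G → ℂ) a /
        (χ : G → ℂ) 1) := by
        rw [mul_left_comm, Finset.mul_sum]
        congr 1
        refine Finset.sum_congr rfl (fun a _ => ?_)
        ring
    _ = (Nat.card A : ℂ)⁻¹ * ∑ a : A, (1 - (((l a)⁻¹ : ℂˣ) : ℂ)) * (4 * (Nat.card A : ℂ) ^ 3) := by
        rw [Finset.sum_congr rfl (fun a _ => h2 a)]
    _ = 4 * (Nat.card A : ℂ) ^ 3 := by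
        rw [← Finset.sum_mul, Finset.sum_sub_distrib]
        have h4 : ∑ a : A, (((l a)⁻¹ : ℂˣ) : ℂ) = 0 := by
          have h5 := sum_apply l
          rw [if_neg hl] at h5
          have h6 : ∑ a : A, (((l a)⁻¹ : ℂˣ) : ℂ) = conj (∑ a : A, (l a : ℂ)) := by
            rw [map_sum]
            refine Finset.sum_congr rfl (fun a _ => ?_)
            rw [conj_hom]
          rw [h6, h5, map_zero]
        rw [h4, Finset.sum_const, Finset.card_univ, ← Nat.card_eq_fintype_card, nsmul_eq_mul]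
        field_simp
        ring

omit h in
theorem v_trivial (χ : IrrCharacter G) : v (1 : A →* ℂˣ) χ = 0 := by
  classical
  have h1 : (v (1 : A →* ℂˣ) χ : ℂ) = 0 := by
    rw [v_eq]
    simp
  exact_mod_cast h1

theorem comm_sub (a b : A) : a * b = b * a := Subtype.ext (h.comm a a.2 b b.2)

/-- The value at a nontrivial element of `A` of an irreducible character. -/
theorem char_eq [Fintype (A →* ℂˣ)] (χ : IrrCharacter G) (T : A) (hT1 : T ≠ 1) :
    (χ : G → ℂ) T = - ∑ l : A →* ℂˣ, (l T : ℂ) * (v l χ : ℂ) := by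
  classical
  have hm : (Nat.card A : ℂ) ≠ 0 := card_ne_zero_complex
  have h1 : ∑ l : A →* ℂˣ, (l T : ℂ) * (v l χ : ℂ) =
      (Nat.card A : ℂ)⁻¹ * ∑ a : A, (χ : G → ℂ) a *
        ∑ l : A →* ℂˣ, ((l T : ℂ) - (l (T * a⁻¹) : ℂ)) := by
    have e1 : ∀ l : A →* ℂˣ, (l T : ℂ) * (v l χ : ℂ) = (Nat.card A : ℂ)⁻¹ *
        ∑ a : A, (χ : G → ℂ) a * ((l T : ℂ) - (l (T * a⁻¹) : ℂ)) := by
      intro l
      rw [v_eq', mul_left_comm, Finset.mul_sum]
      congr 1
      refine Finset.sum_congr rfl (fun a _ => ?_)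
      rw [map_mul, map_inv, Units.val_mul]
      ring
    rw [Finset.sum_congr rfl (fun l _ => e1 l), ← Finset.mul_sum, Finset.sum_comm]
    congr 1
    refine Finset.sum_congr rfl (fun a _ => ?_)
    rw [Finset.mul_sum]
  rw [h1]
  have h2 : ∀ a : A, (χ : G → ℂ) a * ∑ l : A →* ℂˣ, ((l T : ℂ) - (l (T * a⁻¹) : ℂ)) =
      if a = T then - ((χ : G → ℂ) T * Nat.card A) else 0 := by
    intro a
    rw [Finset.sum_sub_distrib, sum_hom_apply (comm_sub h), sum_hom_apply (comm_sub h),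
      if_neg hT1]
    by_cases ha : a = T
    · rw [if_pos ha, ha, if_pos (by rw [mul_inv_cancel])]
      ring
    · rw [if_neg ha, if_neg]
      · ring
      · intro h3
        exact ha (mul_inv_eq_one.1 h3).symm
  rw [Finset.sum_congr rfl (fun a _ => h2 a), Finset.sum_ite_eq' Finset.univ T,
    if_pos (Finset.mem_univ _)]
  field_simp

/-- The value at `t` of an irreducible character. -/
theorem char_t_eq [Fintype (A →* ℂˣ)] (χ : IrrCharacter G) :
    (χ : G → ℂ) t = - ∑ l : A →* ℂˣ, (l ⟨t, h.t_mem⟩ : ℂ) * (v l χ : ℂ) :=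
  char_eq h χ ⟨t, h.t_mem⟩ (fun h1 => h.t_ne (congrArg Subtype.val h1))

theorem sum_char_t_sq [Fintype (IrrCharacter G)] :
    ∑ χ : IrrCharacter G, (χ : G → ℂ) t ^ 2 = 2 * (Nat.card A : ℂ) := by
  classical
  have h1 := Cfsg.Agent.S0145.sum_irr_mul_conj t t
  rw [if_pos (IsConj.refl t), card_centralizer h] at h1
  push_cast at h1
  rw [← h1]
  refine Finset.sum_congr rfl (fun χ _ => ?_)
  rw [char_t_real h, pow_two]

end Cfsg.Agent.Classification.BSW.BetaSum
end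

-- part: Classification/BSW/SqSum
section
/-!
# Integer vectors of small norm
-/

set_option autoImplicit false

namespace Cfsg.Agent.Classification.BSW.SqSum

theorem int_sq_one {n : ℤ} (h : n ^ 2 = 1) : n = 1 ∨ n = -1 := by
  have h1 : (n - 1) * (n + 1) = 0 := by ring_nf; rw [h]; ring
  rcases mul_eq_zero.1 h1 with h2 | h2
  · left; omega
  · right; omega

theorem tri {a b c d : ℤ} (ha : a = 1 ∨ a = -1) (hb : b = 0 ∨ b = 1 ∨ b = -1)
    (hc : c = 1 ∨ c = -1) (hd : d = 0 ∨ d = 1 ∨ d = -1) (hne : b ≠ a)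
    (h : 2 ≤ 1 + a * b + c * d) : b = 0 ∧ d = c := by
  rcases ha with rfl | rfl <;> rcases hb with rfl | rfl | rfl <;> rcases hc with rfl | rfl <;>
    rcases hd with rfl | rfl | rfl <;> simp_all

theorem pos_eq {a b : ℤ} (ha : a = 0 ∨ a = 1 ∨ a = -1) (hb : b = 0 ∨ b = 1 ∨ b = -1)
    (h : 0 < a * b) : b = a ∧ a ^ 2 = 1 := by
  rcases ha with rfl | rfl | rfl <;> rcases hb with rfl | rfl | rfl <;> simp_all

/-- two integers with sum three and squares at most seven -/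
theorem sum_three {a b : ℤ} (h : a + b = 3) (h2 : a ^ 2 + b ^ 2 ≤ 7) : a = 1 ∨ b = 1 := by
  have h3 : b = 3 - a := by omega
  subst h3
  have h4 : a ≤ 2 := by nlinarith
  have h5 : 1 ≤ a := by nlinarith
  omega

variable {I : Type*} [DecidableEq I]

theorem one_of_sum_one (s : Finset I) (w : I → ℤ) (hs : ∑ j ∈ s, w j ^ 2 = 1) :
    ∃ i ∈ s, w i ^ 2 = 1 ∧ ∀ j ∈ s, j ≠ i → w j = 0 := by
  obtain ⟨i, hi, hi0⟩ : ∃ i ∈ s, w i ≠ 0 := by
    by_contra hc
    push Not at hc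
    rw [Finset.sum_eq_zero (fun j hj => by rw [hc j hj]; ring)] at hs
    exact absurd hs (by norm_num)
  have h1 := Finset.add_sum_erase s (fun j => w j ^ 2) hi
  rw [hs] at h1
  have h2 : 0 ≤ ∑ j ∈ s.erase i, w j ^ 2 := Finset.sum_nonneg (fun j _ => sq_nonneg _)
  have h3 : 1 ≤ w i ^ 2 := by
    have : 0 < w i ^ 2 := by positivity
    omega
  have h4 : w i ^ 2 = 1 := by omega
  have h5 : ∑ j ∈ s.erase i, w j ^ 2 = 0 := by omega
  refine ⟨i, hi, h4, fun j hj hji => ?_⟩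
  have h6 := (Finset.sum_eq_zero_iff_of_nonneg (fun j _ => sq_nonneg (w j))).1 h5 j
    (Finset.mem_erase.2 ⟨hji, hj⟩)
  exact pow_eq_zero_iff (two_ne_zero) |>.1 h6

theorem two_of_sum_two (s : Finset I) (w : I → ℤ) (hs : ∑ j ∈ s, w j ^ 2 = 2) :
    ∃ i ∈ s, ∃ k ∈ s, i ≠ k ∧ w i ^ 2 = 1 ∧ w k ^ 2 = 1 ∧ ∀ j ∈ s, j ≠ i → j ≠ k → w j = 0 := by
  obtain ⟨i, hi, hi0⟩ : ∃ i ∈ s, w i ≠ 0 := by
    by_contra hc
    push Not at hc
    rw [Finset.sum_eq_zero (fun j hj => by rw [hc j hj]; ring)] at hs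
    exact absurd hs (by norm_num)
  have h1 := Finset.add_sum_erase s (fun j => w j ^ 2) hi
  rw [hs] at h1
  have h2 : 0 ≤ ∑ j ∈ s.erase i, w j ^ 2 := Finset.sum_nonneg (fun j _ => sq_nonneg _)
  have h3 : w i ^ 2 ≤ 2 := by omega
  have h5 : w i ≤ 1 := by nlinarith
  have h6 : -1 ≤ w i := by nlinarith
  have h4 : w i ^ 2 = 1 := by
    have : w i = 1 ∨ w i = -1 := by omega
    rcases this with h | h <;> rw [h] <;> norm_num
  have h7 : ∑ j ∈ s.erase i, w j ^ 2 = 1 := by omega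
  obtain ⟨k, hk, hk1, hk2⟩ := one_of_sum_one _ w h7
  rw [Finset.mem_erase] at hk
  refine ⟨i, hi, k, hk.2, Ne.symm hk.1, h4, hk1, fun j hj hji hjk => ?_⟩
  exact hk2 j (Finset.mem_erase.2 ⟨hji, hj⟩) hjk

variable [Fintype I]

theorem third (w : I → ℤ) (i0 i1 : I) (hne : i1 ≠ i0) (h0 : w i0 = 1) (h1 : w i1 ^ 2 = 1)
    (hs : ∑ j, w j ^ 2 = 3) :
    ∃ i2, i2 ≠ i0 ∧ i2 ≠ i1 ∧ w i2 ^ 2 = 1 ∧
      (∀ j, j ≠ i0 → j ≠ i1 → j ≠ i2 → w j = 0) ∧
      ∀ F : I → ℂ, ∑ j, (w j : ℂ) * F j = F i0 + w i1 * F i1 + w i2 * F i2 := by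
  have e1 := Finset.add_sum_erase Finset.univ (fun j => w j ^ 2) (Finset.mem_univ i0)
  have hm : i1 ∈ Finset.univ.erase i0 := Finset.mem_erase.2 ⟨hne, Finset.mem_univ _⟩
  have e2 := Finset.add_sum_erase _ (fun j => w j ^ 2) hm
  rw [← e2, hs, h0, h1] at e1
  have e3 : ∑ j ∈ (Finset.univ.erase i0).erase i1, w j ^ 2 = 1 := by linarith
  obtain ⟨i2, hi2, hw2, hz⟩ := one_of_sum_one _ w e3
  rw [Finset.mem_erase, Finset.mem_erase] at hi2
  have hz' : ∀ j, j ≠ i0 → j ≠ i1 → j ≠ i2 → w j = 0 := fun j h0 h1 h2 =>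
    hz j (Finset.mem_erase.2 ⟨h1, Finset.mem_erase.2 ⟨h0, Finset.mem_univ _⟩⟩) h2
  refine ⟨i2, hi2.2.1, hi2.1, hw2, hz', fun F => ?_⟩
  rw [← Finset.add_sum_erase Finset.univ (fun j => (w j : ℂ) * F j) (Finset.mem_univ i0),
    ← Finset.add_sum_erase _ (fun j => (w j : ℂ) * F j) hm,
    ← Finset.add_sum_erase _ (fun j => (w j : ℂ) * F j)
      (Finset.mem_erase.2 ⟨hi2.1, Finset.mem_erase.2 hi2.2⟩)]
  rw [Finset.sum_eq_zero (fun j hj => ?_), h0]
  · simp; ring
  · rw [Finset.mem_erase, Finset.mem_erase, Finset.mem_erase] at hj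
    rw [hz' j hj.2.2.1 hj.2.1 hj.1]; simp

theorem fourth (w : I → ℤ) (i0 i1 : I) (hne : i1 ≠ i0) (h0 : w i0 = 1) (h1 : w i1 ^ 2 = 1)
    (hs : ∑ j, w j ^ 2 = 4) :
    ∃ i2 i3, i2 ≠ i0 ∧ i2 ≠ i1 ∧ i3 ≠ i0 ∧ i3 ≠ i1 ∧ i2 ≠ i3 ∧ w i2 ^ 2 = 1 ∧ w i3 ^ 2 = 1 ∧
      (∀ j, j ≠ i0 → j ≠ i1 → j ≠ i2 → j ≠ i3 → w j = 0) ∧
      ∀ F : I → ℂ, ∑ j, (w j : ℂ) * F j =
        F i0 + w i1 * F i1 + w i2 * F i2 + w i3 * F i3 := by
  have e1 := Finset.add_sum_erase Finset.univ (fun j => w j ^ 2) (Finset.mem_univ i0)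
  have hm : i1 ∈ Finset.univ.erase i0 := Finset.mem_erase.2 ⟨hne, Finset.mem_univ _⟩
  have e2 := Finset.add_sum_erase _ (fun j => w j ^ 2) hm
  rw [← e2, hs, h0, h1] at e1
  have e3 : ∑ j ∈ (Finset.univ.erase i0).erase i1, w j ^ 2 = 2 := by linarith
  obtain ⟨i2, hi2, i3, hi3, hne23, hw2, hw3, hz⟩ := two_of_sum_two _ w e3
  rw [Finset.mem_erase, Finset.mem_erase] at hi2 hi3
  have hz' : ∀ j, j ≠ i0 → j ≠ i1 → j ≠ i2 → j ≠ i3 → w j = 0 := fun j h0 h1 h2 h3 =>
    hz j (Finset.mem_erase.2 ⟨h1, Finset.mem_erase.2 ⟨h0, Finset.mem_univ _⟩⟩) h2 h3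
  refine ⟨i2, i3, hi2.2.1, hi2.1, hi3.2.1, hi3.1, hne23, hw2, hw3, hz', fun F => ?_⟩
  rw [← Finset.add_sum_erase Finset.univ (fun j => (w j : ℂ) * F j) (Finset.mem_univ i0),
    ← Finset.add_sum_erase _ (fun j => (w j : ℂ) * F j) hm,
    ← Finset.add_sum_erase _ (fun j => (w j : ℂ) * F j)
      (Finset.mem_erase.2 ⟨hi2.1, Finset.mem_erase.2 hi2.2⟩),
    ← Finset.add_sum_erase _ (fun j => (w j : ℂ) * F j)
      (Finset.mem_erase.2 ⟨hne23.symm, Finset.mem_erase.2 ⟨hi3.1, Finset.mem_erase.2 hi3.2⟩⟩)]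
  rw [Finset.sum_eq_zero (fun j hj => ?_), h0]
  · simp; ring
  · rw [Finset.mem_erase, Finset.mem_erase, Finset.mem_erase, Finset.mem_erase] at hj
    rw [hz' j hj.2.2.2.1 hj.2.2.1 hj.2.1 hj.1]; simp

/-- entries of a vector of norm at most 3 with an entry 1 -/
theorem entry_le (w : I → ℤ) (i0 i1 : I) (hne : i1 ≠ i0) (h0 : w i0 = 1)
    (hs : ∑ j, w j ^ 2 ≤ 4) : w i1 = 0 ∨ w i1 ^ 2 = 1 := by
  have e1 := Finset.add_sum_erase Finset.univ (fun j => w j ^ 2) (Finset.mem_univ i0)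
  have hm : i1 ∈ Finset.univ.erase i0 := Finset.mem_erase.2 ⟨hne, Finset.mem_univ _⟩
  have e2 := Finset.add_sum_erase _ (fun j => w j ^ 2) hm
  have e3 : 0 ≤ ∑ j ∈ (Finset.univ.erase i0).erase i1, w j ^ 2 :=
    Finset.sum_nonneg (fun j _ => sq_nonneg _)
  have e4 : w i1 ^ 2 ≤ 3 := by rw [h0] at e1; linarith
  have h5 : w i1 ≤ 1 := by nlinarith
  have h6 : -1 ≤ w i1 := by nlinarith
  have : w i1 = 1 ∨ w i1 = -1 ∨ w i1 = 0 := by omega
  rcases this with h | h | h <;> rw [h] <;> norm_num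

theorem eq_of_inner (w w' : I → ℤ) (hw : ∑ j, w j ^ 2 = 3) (hw' : ∑ j, w' j ^ 2 = 3)
    (hi : ∑ j, w j * w' j = 3) : w = w' := by
  have h1 : ∑ j, (w j - w' j) ^ 2 = 0 := by
    have : ∀ j, (w j - w' j) ^ 2 = w j ^ 2 + w' j ^ 2 - 2 * (w j * w' j) := fun j => by ring
    rw [Finset.sum_congr rfl (fun j _ => this j), Finset.sum_sub_distrib, Finset.sum_add_distrib,
      ← Finset.mul_sum, hw, hw', hi]
    norm_num
  funext j
  have h2 := (Finset.sum_eq_zero_iff_of_nonneg (fun j _ => sq_nonneg (w j - w' j))).1 h1 j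
    (Finset.mem_univ j)
  have := pow_eq_zero_iff (two_ne_zero) |>.1 h2
  linarith

end Cfsg.Agent.Classification.BSW.SqSum
end

-- part: Classification/BSW/Good
section
/-!
# The common exceptional constituent in the Brauer-Suzuki-Wall configuration
-/

set_option autoImplicit false

open scoped ComplexConjugate
open Cfsg

namespace Cfsg.Agent.Classification.BSW.Good

open Cfsg.Agent.Characters.Core Cfsg.Agent.Characters.Linear Cfsg.Agent.Characters.ClassMul
open Cfsg.Agent.Classification.BSW.Setup Cfsg.Agent.Classification.BSW.Theta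
open Cfsg.Agent.Classification.BSW.BetaSum Cfsg.Agent.Classification.BSW.SqSum

variable {G : Type*} [Group G] [Fintype G] {A : Subgroup G} {t s : G} (h : BSWData A t s)
include h

omit h [Fintype G] in
theorem one_mul_one' : (1 : A →* ℂˣ) * 1 = 1 := by ext; simp

omit [Fintype G] in
theorem T_ne : (⟨t, h.t_mem⟩ : A) ≠ 1 := fun h1 => h.t_ne (congrArg Subtype.val h1)

theorem lT_cases (l : A →* ℂˣ) : (l ⟨t, h.t_mem⟩ : ℂ) = 1 ∨ (l ⟨t, h.t_mem⟩ : ℂ) = -1 := by
  have h1 := l_t_sq h l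
  have h2 : ((l ⟨t, h.t_mem⟩ : ℂ) - 1) * ((l ⟨t, h.t_mem⟩ : ℂ) + 1) = 0 := by
    linear_combination h1
  rcases mul_eq_zero.1 h2 with h3 | h3
  · left; linear_combination h3
  · right; linear_combination h3

open scoped Classical in
theorem card_sq_eq_one [Fintype (A →* ℂˣ)] :
    (Finset.univ.filter (fun l : A →* ℂˣ => l * l = 1)).card = 2 := by
  have hm : (Nat.card A : ℂ) ≠ 0 := card_ne_zero_complex
  have h1 : ∑ l : A →* ℂˣ, ∑ a : A, (l (a * a) : ℂ) =
      (Nat.card A : ℂ) * ((Finset.univ.filter (fun l : A →* ℂˣ => l * l = 1)).card : ℂ) := by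
    have : ∀ l : A →* ℂˣ, ∑ a : A, (l (a * a) : ℂ) =
        if l * l = 1 then (Nat.card A : ℂ) else 0 := by
      intro l
      rw [← sum_apply (l * l)]
      refine Finset.sum_congr rfl (fun a _ => ?_)
      rw [map_mul, MonoidHom.mul_apply]
    rw [Finset.sum_congr rfl (fun l _ => this l), ← Finset.sum_filter, Finset.sum_const,
      nsmul_eq_mul, mul_comm]
  have h2 : ∑ l : A →* ℂˣ, ∑ a : A, (l (a * a) : ℂ) = (Nat.card A : ℂ) * 2 := by
    rw [Finset.sum_comm]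
    have h3 : ∀ a : A, ∑ l : A →* ℂˣ, (l (a * a) : ℂ) =
        if a * a = 1 then (Nat.card A : ℂ) else 0 := fun a => by
      convert sum_hom_apply (comm_sub h) (a * a)
    rw [Finset.sum_congr rfl (fun a _ => h3 a), ← Finset.sum_filter, Finset.sum_const,
      nsmul_eq_mul]
    have h4 : Finset.univ.filter (fun a : A => a * a = 1) = {1, ⟨t, h.t_mem⟩} := by
      ext a
      rw [Finset.mem_filter, Finset.mem_insert, Finset.mem_singleton]
      constructor
      · rintro ⟨-, ha⟩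
        by_cases ha1 : a = 1
        · left; exact ha1
        · right
          apply Subtype.ext
          exact h.t_unique a.2 (fun h5 => ha1 (Subtype.ext h5)) (congrArg Subtype.val ha)
      · rintro (rfl | rfl)
        · exact ⟨Finset.mem_univ _, by simp⟩
        · exact ⟨Finset.mem_univ _, Subtype.ext h.t_sq⟩
    rw [h4, Finset.card_pair (Ne.symm (T_ne h))]
    push_cast; ring
  rw [h1] at h2
  have := mul_left_cancel₀ hm h2
  exact_mod_cast this

open scoped Classical in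
theorem two_mul_card_T [Fintype (A →* ℂˣ)] :
    2 * (Finset.univ.filter (fun l : A →* ℂˣ => (l ⟨t, h.t_mem⟩ : ℂ) = 1)).card = Nat.card A ∧
    2 * (Finset.univ.filter (fun l : A →* ℂˣ => (l ⟨t, h.t_mem⟩ : ℂ) = -1)).card =
      Nat.card A := by
  have h0 : ∑ l : A →* ℂˣ, (l ⟨t, h.t_mem⟩ : ℂ) = 0 := by
    rw [sum_hom_apply (comm_sub h), if_neg (T_ne h)]
  have hc : (Fintype.card (A →* ℂˣ) : ℂ) = Nat.card A := card_hom (comm_sub h)
  constructor
  · have h1 : ∑ l : A →* ℂˣ, (1 + (l ⟨t, h.t_mem⟩ : ℂ)) =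
        2 * ((Finset.univ.filter (fun l : A →* ℂˣ => (l ⟨t, h.t_mem⟩ : ℂ) = 1)).card : ℂ) := by
      have : ∀ l : A →* ℂˣ, (1 + (l ⟨t, h.t_mem⟩ : ℂ)) =
          if (l ⟨t, h.t_mem⟩ : ℂ) = 1 then 2 else 0 := by
        intro l
        rcases lT_cases h l with h2 | h2
        · rw [if_pos h2, h2]; norm_num
        · rw [if_neg (by rw [h2]; norm_num), h2]; norm_num
      rw [Finset.sum_congr rfl (fun l _ => this l), ← Finset.sum_filter, Finset.sum_const,
        nsmul_eq_mul, mul_comm]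
    rw [Finset.sum_add_distrib, h0, Finset.sum_const, Finset.card_univ, nsmul_eq_mul, hc] at h1
    have h2 : (2 : ℂ) * ((Finset.univ.filter
      (fun l : A →* ℂˣ => (l ⟨t, h.t_mem⟩ : ℂ) = 1)).card : ℂ) = Nat.card A := by
      rw [← h1]; ring
    exact_mod_cast h2
  · have h1 : ∑ l : A →* ℂˣ, (1 - (l ⟨t, h.t_mem⟩ : ℂ)) =
        2 * ((Finset.univ.filter (fun l : A →* ℂˣ => (l ⟨t, h.t_mem⟩ : ℂ) = -1)).card : ℂ) := by
      have : ∀ l : A →* ℂˣ, (1 - (l ⟨t, h.t_mem⟩ : ℂ)) =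
          if (l ⟨t, h.t_mem⟩ : ℂ) = -1 then 2 else 0 := by
        intro l
        rcases lT_cases h l with h2 | h2
        · rw [if_neg (by rw [h2]; norm_num), h2]; norm_num
        · rw [if_pos h2, h2]; norm_num
      rw [Finset.sum_congr rfl (fun l _ => this l), ← Finset.sum_filter, Finset.sum_const,
        nsmul_eq_mul, mul_comm]
    rw [Finset.sum_sub_distrib, h0, Finset.sum_const, Finset.card_univ, nsmul_eq_mul, hc] at h1
    have h2 : (2 : ℂ) * ((Finset.univ.filter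
      (fun l : A →* ℂˣ => (l ⟨t, h.t_mem⟩ : ℂ) = -1)).card : ℂ) = Nat.card A := by
      rw [← h1]; ring
    exact_mod_cast h2

theorem exists_lam (hm : 4 < Nat.card A) :
    ∃ l : A →* ℂˣ, (l ⟨t, h.t_mem⟩ : ℂ) = 1 ∧ l * l ≠ 1 := by
  classical
  have : Finite (A →* ℂˣ) := by
    let _ : CommGroup A := { (inferInstance : Group A) with mul_comm := comm_sub h }
    obtain ⟨e⟩ := CommGroup.monoidHom_mulEquiv_of_hasEnoughRootsOfUnity A ℂ
    exact Finite.of_equiv A e.symm.toEquiv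
  have := Fintype.ofFinite (A →* ℂˣ)
  by_contra hc
  push Not at hc
  have h1 := (two_mul_card_T h).1
  have h2 := card_sq_eq_one h
  have h3 : (Finset.univ.filter (fun l : A →* ℂˣ => (l ⟨t, h.t_mem⟩ : ℂ) = 1)).card ≤
      (Finset.univ.filter (fun l : A →* ℂˣ => l * l = 1)).card := by
    apply Finset.card_le_card
    intro l hl
    rw [Finset.mem_filter] at hl ⊢
    exact ⟨hl.1, hc l hl.2⟩
  omega

theorem exists_mu (hm : 2 < Nat.card A) :
    ∃ l : A →* ℂˣ, (l ⟨t, h.t_mem⟩ : ℂ) = -1 ∧ l * l ≠ 1 := by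
  classical
  have : Finite (A →* ℂˣ) := by
    let _ : CommGroup A := { (inferInstance : Group A) with mul_comm := comm_sub h }
    obtain ⟨e⟩ := CommGroup.monoidHom_mulEquiv_of_hasEnoughRootsOfUnity A ℂ
    exact Finite.of_equiv A e.symm.toEquiv
  have := Fintype.ofFinite (A →* ℂˣ)
  by_contra hc
  push Not at hc
  have h1 := (two_mul_card_T h).2
  have h2 := card_sq_eq_one h
  have h3 : (Finset.univ.filter (fun l : A →* ℂˣ => (l ⟨t, h.t_mem⟩ : ℂ) = -1)).card ≤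
      ((Finset.univ.filter (fun l : A →* ℂˣ => l * l = 1)).erase 1).card := by
    apply Finset.card_le_card
    intro l hl
    rw [Finset.mem_filter] at hl
    rw [Finset.mem_erase, Finset.mem_filter]
    refine ⟨?_, Finset.mem_univ _, hc l hl.2⟩
    rintro rfl
    have := hl.2
    simp at this
    norm_num at this
  rw [Finset.card_erase_of_mem (by simp [one_mul_one']), h2] at h3
  omega

theorem exists_tau [Fintype (A →* ℂˣ)] : ∃ τ : A →* ℂˣ, τ ≠ 1 ∧ τ * τ = 1 ∧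
    ∀ l : A →* ℂˣ, l * l = 1 → l = 1 ∨ l = τ := by
  classical
  have h2 := card_sq_eq_one h
  have h3 : ((Finset.univ.filter (fun l : A →* ℂˣ => l * l = 1)).erase 1).card = 1 := by
    rw [Finset.card_erase_of_mem (by simp [one_mul_one']), h2]
  obtain ⟨τ, hτ⟩ := Finset.card_eq_one.1 h3
  have h4 : τ ∈ (Finset.univ.filter (fun l : A →* ℂˣ => l * l = 1)).erase 1 := by
    rw [hτ]; exact Finset.mem_singleton_self _
  rw [Finset.mem_erase, Finset.mem_filter] at h4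
  refine ⟨τ, h4.1, h4.2.2, fun l hl => ?_⟩
  by_cases hl1 : l = 1
  · left; exact hl1
  · right
    have : l ∈ (Finset.univ.filter (fun l : A →* ℂˣ => l * l = 1)).erase 1 := by
      rw [Finset.mem_erase, Finset.mem_filter]; exact ⟨hl1, Finset.mem_univ _, hl⟩
    rw [hτ] at this
    exact Finset.mem_singleton.1 this

variable [Fintype (IrrCharacter G)]

theorem norm_three (l : A →* ℂˣ) (hl : l * l ≠ 1) : ∑ χ : IrrCharacter G, v l χ ^ 2 = 3 := by
  classical
  have hl1 : l ≠ 1 := by rintro rfl; exact hl one_mul_one'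
  have := sum_v_mul_v h l l hl1 hl1
  rw [if_pos rfl, if_neg hl] at this
  rw [Finset.sum_congr rfl (fun χ _ => pow_two (v l χ)), this]
  norm_num

theorem norm_four (l : A →* ℂˣ) (hl1 : l ≠ 1) (hl : l * l = 1) :
    ∑ χ : IrrCharacter G, v l χ ^ 2 = 4 := by
  classical
  have := sum_v_mul_v h l l hl1 hl1
  rw [if_pos rfl, if_pos hl] at this
  rw [Finset.sum_congr rfl (fun χ _ => pow_two (v l χ)), this]
  norm_num

theorem inner_ge (l l' : A →* ℂˣ) (hl : l ≠ 1) (hl' : l' ≠ 1) :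
    2 ≤ ∑ χ : IrrCharacter G, v l χ * v l' χ := by
  classical
  rw [sum_v_mul_v h l l' hl hl']
  split_ifs <;> norm_num

/-- the relations coming from `θ_l` when `v l φ = δ` -/
theorem rel (l : A →* ℂˣ) (hl : l * l ≠ 1) (φ : IrrCharacter G) (hφ : φ ≠ one)
    (hδ : v l φ ^ 2 = 1) :
    ∃ ψ : IrrCharacter G, ψ ≠ one ∧ ψ ≠ φ ∧ v l ψ ^ 2 = 1 ∧
      (∀ j, j ≠ one → j ≠ φ → j ≠ ψ → v l j = 0) ∧
      (∀ F : IrrCharacter G → ℂ, ∑ χ, (v l χ : ℂ) * F χ = F one + v l φ * F φ + v l ψ * F ψ) ∧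
      (1 + (v l φ : ℂ) * (φ : G → ℂ) 1 + (v l ψ : ℂ) * (ψ : G → ℂ) 1 = 0) ∧
      (1 + (v l φ : ℂ) * (φ : G → ℂ) t + (v l ψ : ℂ) * (ψ : G → ℂ) t =
        2 * (1 - (l ⟨t, h.t_mem⟩ : ℂ))) ∧
      ((Nat.card G : ℂ) * (1 + ((v l φ : ℂ) * (φ : G → ℂ) t) ^ 2 / ((v l φ : ℂ) * (φ : G → ℂ) 1) +
        ((v l ψ : ℂ) * (ψ : G → ℂ) t) ^ 2 / ((v l ψ : ℂ) * (ψ : G → ℂ) 1)) =
        4 * (Nat.card A : ℂ) ^ 3) := by
  classical
  have hl1 : l ≠ 1 := by rintro rfl; exact hl one_mul_one'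
  obtain ⟨ψ, h1, h2, h3, h4, h5⟩ := third (fun χ : IrrCharacter G => v l χ) one φ hφ
    (v_one l hl1) hδ (norm_three h l hl)
  refine ⟨ψ, h1, h2, h3, h4, h5, ?_, ?_, ?_⟩
  · have h6 := h5 (fun χ => (χ : G → ℂ) 1)
    rw [← theta_eq_sum l (1 : G), theta_eq_zero l (by simp)] at h6
    rw [h6]; rfl
  · have h6 := h5 (fun χ => (χ : G → ℂ) t)
    rw [← theta_eq_sum l t, theta_t h] at h6
    rw [h6]; rfl
  · rw [← sum_v_beta h l hl1, h5 (fun χ => (χ : G → ℂ) t ^ 2 / (χ : G → ℂ) 1)]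
    congr 1
    have e1 : ((v l φ : ℤ) : ℂ) ^ 2 = 1 := by exact_mod_cast hδ
    have e2 : ((v l ψ : ℤ) : ℂ) ^ 2 = 1 := by exact_mod_cast h3
    have e3 : (v l φ : ℂ) ≠ 0 := by intro h0; rw [h0] at e1; norm_num at e1
    have e4 : (v l ψ : ℂ) ≠ 0 := by intro h0; rw [h0] at e2; norm_num at e2
    have e5 : (φ : G → ℂ) 1 ≠ 0 := isIrr_apply_one_ne_zero φ.2
    have e6 : (ψ : G → ℂ) 1 ≠ 0 := isIrr_apply_one_ne_zero ψ.2
    simp only [one_apply]
    field_simp

theorem v_int_cases (l : A →* ℂˣ) (hl : l * l ≠ 1) (φ : IrrCharacter G) (hφ : φ ≠ one) :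
    v l φ = 0 ∨ v l φ = 1 ∨ v l φ = -1 := by
  classical
  have hl1 : l ≠ 1 := by rintro rfl; exact hl one_mul_one'
  rcases entry_le (fun χ : IrrCharacter G => v l χ) one φ hφ (v_one l hl1)
    (by rw [norm_three h l hl]; norm_num) with h1 | h1
  · left; exact h1
  · right; exact int_sq_one h1

/-- the main algebraic step for two characters with different values at `t` -/
theorem x_eq_one (l m : A →* ℂˣ) (hl : l * l ≠ 1) (hm : m * m ≠ 1)
    (hlt : (l ⟨t, h.t_mem⟩ : ℂ) = 1) (hmt : (m ⟨t, h.t_mem⟩ : ℂ) = -1)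
    (φ : IrrCharacter G) (hφ : φ ≠ one) (hδ : v l φ ^ 2 = 1) (he : v m φ = v l φ) :
    (v l φ : ℂ) * (φ : G → ℂ) t = 1 := by
  obtain ⟨ψ, -, -, h3, -, -, h6, h7, h8⟩ := rel h l hl φ hφ hδ
  obtain ⟨ψ', -, -, k3, -, -, k6, k7, k8⟩ := rel h m hm φ hφ (by rw [he]; exact hδ)
  rw [he] at k6 k7 k8
  rw [hlt] at h7
  rw [hmt] at k7
  have hg : (Nat.card G : ℂ) ≠ 0 := card_ne_zero_complex
  set x := (v l φ : ℂ) * (φ : G → ℂ) t with hx
  set X := (v l φ : ℂ) * (φ : G → ℂ) 1 with hX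
  set y := (v l ψ : ℂ) * (ψ : G → ℂ) t with hy
  set Y := (v l ψ : ℂ) * (ψ : G → ℂ) 1 with hY
  set z := (v m ψ' : ℂ) * (ψ' : G → ℂ) t with hz
  set Z := (v m ψ' : ℂ) * (ψ' : G → ℂ) 1 with hZ
  have hZY : Z = Y := by linear_combination k6 - h6
  have hY0 : Y ≠ 0 := by
    rw [hY]
    refine mul_ne_zero ?_ (isIrr_apply_one_ne_zero ψ.2)
    intro h0
    have : v l ψ = 0 := by exact_mod_cast h0
    rw [this] at h3
    norm_num at h3
  rw [hZY] at k8
  have h9 := mul_left_cancel₀ hg (h8.trans k8.symm)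
  have h10 : y ^ 2 / Y = z ^ 2 / Y := by linear_combination h9
  have h11 : y ^ 2 = z ^ 2 := by
    rw [div_left_inj' hY0] at h10
    exact h10
  have h12 : y = -1 - x := by linear_combination h7
  have h13 : z = 3 - x := by linear_combination k7
  rw [h12, h13] at h11
  linear_combination h11 / 8

omit [Fintype (IrrCharacter G)] in
/-- Values at `t` are integers. -/
theorem exists_int_t (χ : IrrCharacter G) : ∃ n : ℤ, (χ : G → ℂ) t = n := by
  classical
  have : Finite (A →* ℂˣ) := by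
    let _ : CommGroup A := { (inferInstance : Group A) with mul_comm := comm_sub h }
    obtain ⟨e⟩ := CommGroup.monoidHom_mulEquiv_of_hasEnoughRootsOfUnity A ℂ
    exact Finite.of_equiv A e.symm.toEquiv
  have := Fintype.ofFinite (A →* ℂˣ)
  have h1 : ∀ l : A →* ℂˣ, ∃ n : ℤ, (l ⟨t, h.t_mem⟩ : ℂ) * (v l χ : ℂ) = n := by
    intro l
    rcases lT_cases h l with h2 | h2
    · exact ⟨v l χ, by rw [h2, one_mul]⟩
    · exact ⟨-v l χ, by rw [h2]; push_cast; ring⟩
  choose f hf using h1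
  refine ⟨-∑ l, f l, ?_⟩
  rw [char_t_eq h, Finset.sum_congr rfl (fun l _ => hf l)]
  push_cast
  rfl

theorem eq_of_card_four (hA4 : Nat.card A = 4) (m n : A →* ℂˣ) (hm : m * m ≠ 1)
    (hn : n * n ≠ 1) (χ : IrrCharacter G) : v n χ = v m χ := by
  classical
  have : Finite (A →* ℂˣ) := by
    let _ : CommGroup A := { (inferInstance : Group A) with mul_comm := comm_sub h }
    obtain ⟨e⟩ := CommGroup.monoidHom_mulEquiv_of_hasEnoughRootsOfUnity A ℂ
    exact Finite.of_equiv A e.symm.toEquiv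
  have := Fintype.ofFinite (A →* ℂˣ)
  have hc : Fintype.card (A →* ℂˣ) = 4 := by
    have : (Fintype.card (A →* ℂˣ) : ℂ) = Nat.card A := card_hom (comm_sub h)
    rw [hA4] at this
    exact_mod_cast this
  have h2 := card_sq_eq_one h
  have h3 : (Finset.univ.filter (fun l : A →* ℂˣ => ¬ (l * l = 1))).card = 2 := by
    have := Finset.card_filter_add_card_filter_not (s := (Finset.univ : Finset (A →* ℂˣ)))
      (fun l : A →* ℂˣ => l * l = 1)
    rw [h2, Finset.card_univ, hc] at this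
    omega
  have hmi : m * m⁻¹ = 1 := by ext a; simp
  have hmm : m⁻¹ ≠ m := by
    intro h5
    apply hm
    conv_lhs => rw [← h5]
    ext a
    rw [MonoidHom.mul_apply, MonoidHom.inv_apply, MonoidHom.one_apply]
    have := DFunLike.congr_fun h5 a
    rw [MonoidHom.inv_apply] at this
    rw [this]
    have h6 : m a * m a = 1 := by
      rw [← inv_eq_iff_mul_eq_one]; exact this
    rw [h6]
  have hmi2 : m⁻¹ * m⁻¹ ≠ 1 := by
    intro h5
    apply hm
    ext a
    have := DFunLike.congr_fun h5 a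
    rw [MonoidHom.mul_apply, MonoidHom.inv_apply, MonoidHom.one_apply] at this
    rw [MonoidHom.mul_apply, MonoidHom.one_apply]
    have h6 : m a * m a = 1 := by
      rw [← mul_inv_rev, inv_eq_one] at this
      exact this
    rw [h6]
  have h4 : ({m, m⁻¹} : Finset (A →* ℂˣ)) =
      Finset.univ.filter (fun l : A →* ℂˣ => ¬ (l * l = 1)) := by
    apply Finset.eq_of_subset_of_card_le
    · intro l hl
      rw [Finset.mem_insert, Finset.mem_singleton] at hl
      rw [Finset.mem_filter]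
      rcases hl with rfl | rfl
      · exact ⟨Finset.mem_univ _, hm⟩
      · exact ⟨Finset.mem_univ _, hmi2⟩
    · rw [h3, Finset.card_pair (Ne.symm hmm)]
  have h5 : n ∈ ({m, m⁻¹} : Finset (A →* ℂˣ)) := by
    rw [h4, Finset.mem_filter]; exact ⟨Finset.mem_univ _, hn⟩
  rw [Finset.mem_insert, Finset.mem_singleton] at h5
  rcases h5 with rfl | rfl
  · rfl
  · have hm1 : m ≠ 1 := by rintro rfl; exact hm one_mul_one'
    have hn1 : m⁻¹ ≠ 1 := by rintro h5; exact hmi2 (by rw [h5]; exact one_mul_one')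
    have h6 := sum_v_mul_v h m⁻¹ m hn1 hm1
    have hmi' : m⁻¹ * m = 1 := by ext a; simp
    rw [if_neg hmm, if_pos hmi'] at h6
    exact congrFun (eq_of_inner (fun χ : IrrCharacter G => v m⁻¹ χ) (fun χ => v m χ)
      (norm_three h _ hmi2) (norm_three h _ hm) h6) χ

/-- Stage 1: a common constituent for all `l` with `l * l ≠ 1`. -/
theorem exists_good_aux (hm : 4 ≤ Nat.card A) : ∃ (φ : IrrCharacter G) (δ : ℤ), φ ≠ one ∧
    δ ^ 2 = 1 ∧ (δ : ℂ) * (φ : G → ℂ) t = 1 ∧ ∀ l : A →* ℂˣ, l * l ≠ 1 → v l φ = δ := by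
  classical
  obtain ⟨m, hmt, hmm⟩ := exists_mu h (by omega)
  have hm1 : m ≠ 1 := by rintro rfl; exact hmm one_mul_one'
  rcases Nat.lt_or_ge 4 (Nat.card A) with hm4 | hm4
  · obtain ⟨l, hlt, hll⟩ := exists_lam h hm4
    have hl1 : l ≠ 1 := by rintro rfl; exact hll one_mul_one'
    have hlm : l ≠ m := by
      rintro rfl
      rw [hlt] at hmt
      norm_num at hmt
    have hlm' : l * m ≠ 1 := by
      intro h1
      have h2 := DFunLike.congr_fun h1 ⟨t, h.t_mem⟩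
      have h3 : ((l ⟨t, h.t_mem⟩ : ℂˣ) : ℂ) * (m ⟨t, h.t_mem⟩ : ℂ) = 1 := by
        rw [← Units.val_mul, ← MonoidHom.mul_apply, h2]; rfl
      rw [hlt, hmt] at h3
      norm_num at h3
    have h1 := sum_v_mul_v h l m hl1 hm1
    rw [if_neg hlm, if_neg hlm'] at h1
    -- a common constituent
    obtain ⟨φ, hφ, hpos⟩ : ∃ φ : IrrCharacter G, φ ≠ one ∧ 0 < v l φ * v m φ := by
      by_contra hc
      push Not at hc
      have h2 := Finset.add_sum_erase Finset.univ (fun χ : IrrCharacter G => v l χ * v m χ)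
        (Finset.mem_univ one)
      rw [h1] at h2
      simp only [v_one l hl1, v_one m hm1] at h2
      have h3 : ∑ χ ∈ Finset.univ.erase (one : IrrCharacter G), v l χ * v m χ ≤ 0 := by
        refine Finset.sum_nonpos (fun χ hχ => ?_)
        exact hc χ (Finset.mem_erase.1 hχ).1
      linarith
    have hcl := v_int_cases h l hll φ hφ
    have hcm := v_int_cases h m hmm φ hφ
    obtain ⟨he, hδ⟩ := pos_eq hcl hcm hpos
    have hx := x_eq_one h l m hll hmm hlt hmt φ hφ hδ he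
    refine ⟨φ, v l φ, hφ, hδ, hx, ?_⟩
    intro n hn
    have hn1 : n ≠ 1 := by rintro rfl; exact hn one_mul_one'
    obtain ⟨ψ, p1, p2, p3, p4, p5, p6, p7, p8⟩ := rel h l hll φ hφ hδ
    obtain ⟨ψ', q1, q2, q3, q4, q5, q6, q7, q8⟩ := rel h m hmm φ hφ (by rw [he]; exact hδ)
    rw [he] at q6 q7 q8
    rw [hlt, hx] at p7
    rw [hmt, hx] at q7
    have i1 := inner_ge h l n hl1 hn1
    have i2 := inner_ge h m n hm1 hn1
    have j1 := p5 (fun χ => (v n χ : ℂ))
    have j2 := q5 (fun χ => (v n χ : ℂ))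
    have j1' : ∑ χ : IrrCharacter G, v l χ * v n χ = v n one + v l φ * v n φ + v l ψ * v n ψ := by
      exact_mod_cast j1
    have j2' : ∑ χ : IrrCharacter G, v m χ * v n χ =
        v n one + v m φ * v n φ + v m ψ' * v n ψ' := by
      exact_mod_cast j2
    rw [j1', v_one n hn1] at i1
    rw [j2', v_one n hn1, he] at i2
    by_contra hne
    have c1 := v_int_cases h n hn φ hφ
    have c2 := v_int_cases h n hn ψ p1
    have c3 := v_int_cases h n hn ψ' q1
    have c4 : v l ψ = 1 ∨ v l ψ = -1 := int_sq_one p3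
    have c5 : v m ψ' = 1 ∨ v m ψ' = -1 := int_sq_one q3
    have c6 : v l φ = 1 ∨ v l φ = -1 := int_sq_one hδ
    have d1 := tri c6 c1 c4 c2 hne i1
    have d1' := tri c6 c1 c5 c3 hne i2
    -- ψ ≠ ψ'
    have hψ : ψ' ≠ ψ := by
      rintro rfl
      have e1 := p5 (fun χ => (v m χ : ℂ))
      have e1' : ∑ χ : IrrCharacter G, v l χ * v m χ =
        v m one + v l φ * v m φ + v l ψ' * v m ψ' := by exact_mod_cast e1
      rw [h1, v_one m hm1, he] at e1'
      have e2 : v l φ * v l φ = 1 := by rw [← pow_two]; exact hδ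
      rw [e2] at e1'
      have : v l ψ' * v m ψ' = 0 := by linarith
      rcases mul_eq_zero.1 this with h5 | h5
      · rw [h5] at p3; norm_num at p3
      · rw [h5] at q3; norm_num at q3
    obtain ⟨d1, d2⟩ := d1
    obtain ⟨-, d3⟩ := d1'
    obtain ⟨ω, r1, r2, r3, r4, r5, r6, r7, r8⟩ := rel h n hn ψ p1 (by rw [d2]; exact p3)
    have hω : ω = ψ' := by
      by_contra hω
      have := r4 ψ' q1 hψ (Ne.symm hω)
      rw [d3] at this
      rw [this] at q3
      norm_num at q3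
    subst hω
    rw [d2, d3] at r7
    have s1 : (v l ψ : ℂ) * (ψ : G → ℂ) t = -2 := by linear_combination p7
    have s2 : (v m ω : ℂ) * (ω : G → ℂ) t = 2 := by linear_combination q7
    rw [s1, s2] at r7
    rcases lT_cases h n with h5 | h5
    · rw [h5] at r7; norm_num at r7
    · rw [h5] at r7; norm_num at r7
  · -- the case `#A = 4`
    have hA4 : Nat.card A = 4 := le_antisymm hm4 hm
    -- choose a constituent
    have h1 := norm_three h m hmm
    have h2 := Finset.add_sum_erase Finset.univ (fun χ : IrrCharacter G => v m χ ^ 2)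
      (Finset.mem_univ one)
    rw [h1] at h2
    simp only [v_one m hm1] at h2
    obtain ⟨φ, hφ, ψ, hψ, hne, hw1, hw2, hz⟩ := two_of_sum_two
      (Finset.univ.erase (one : IrrCharacter G)) (fun χ => v m χ) (by linarith)
    rw [Finset.mem_erase] at hφ hψ
    -- values at `t` are integers
    obtain ⟨a, ha⟩ := exists_int_t h φ
    obtain ⟨b, hb⟩ := exists_int_t h ψ
    have key : ∀ (φ ψ : IrrCharacter G), φ ≠ one → ψ ≠ one → ψ ≠ φ → v m φ ^ 2 = 1 →
        v m ψ ^ 2 = 1 → 1 + (v m φ : ℂ) * (φ : G → ℂ) t + (v m ψ : ℂ) * (ψ : G → ℂ) t = 4 := by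
      intro φ ψ hφ hψ hne h1 h2
      obtain ⟨ω, p1, p2, p3, p4, p5, p6, p7, p8⟩ := rel h m hmm φ hφ h1
      have : ω = ψ := by
        by_contra hω
        have := p4 ψ hψ hne (Ne.symm hω)
        rw [this] at h2
        norm_num at h2
      subst this
      rw [p7, hmt]; norm_num
    have hE := key φ ψ hφ.1 hψ.1 (Ne.symm hne) hw1 hw2
    have hE' : v m φ * a + v m ψ * b = 3 := by
      rw [ha, hb] at hE
      have : ((v m φ * a + v m ψ * b : ℤ) : ℂ) = ((3 : ℤ) : ℂ) := by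
        push_cast
        linear_combination hE
      exact_mod_cast this
    have hsq : a ^ 2 + b ^ 2 ≤ 7 := by
      choose f hf using (fun χ : IrrCharacter G => exists_int_t h χ)
      have h3 := sum_char_t_sq h
      have h4 : ∑ χ : IrrCharacter G, f χ ^ 2 = 8 := by
        have : ((∑ χ : IrrCharacter G, f χ ^ 2 : ℤ) : ℂ) = ((8 : ℤ) : ℂ) := by
          push_cast
          have e : ∀ χ : IrrCharacter G, (f χ : ℂ) ^ 2 = (χ : G → ℂ) t ^ 2 := fun χ => by
            rw [hf χ]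
          rw [Finset.sum_congr rfl (fun χ _ => e χ), h3, hA4]
          norm_num
        exact_mod_cast this
      have hf1 : f one = 1 := by
        have := hf one
        rw [one_apply] at this
        exact_mod_cast this.symm
      have hfφ : f φ = a := by
        have := (hf φ).symm.trans ha
        exact_mod_cast this
      have hfψ : f ψ = b := by
        have := (hf ψ).symm.trans hb
        exact_mod_cast this
      rw [← Finset.add_sum_erase Finset.univ (fun χ => f χ ^ 2) (Finset.mem_univ one),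
        ← Finset.add_sum_erase _ (fun χ => f χ ^ 2) (Finset.mem_erase.2 hφ),
        ← Finset.add_sum_erase _ (fun χ => f χ ^ 2)
          (Finset.mem_erase.2 ⟨Ne.symm hne, Finset.mem_erase.2 hψ⟩), hf1, hfφ, hfψ] at h4
      have h5 : 0 ≤ ∑ χ ∈ ((Finset.univ.erase (one : IrrCharacter G)).erase φ).erase ψ, f χ ^ 2 :=
        Finset.sum_nonneg (fun _ _ => sq_nonneg _)
      linarith
    have hsq' : (v m φ * a) ^ 2 + (v m ψ * b) ^ 2 ≤ 7 := by
      rw [mul_pow, mul_pow, hw1, hw2]; linarith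
    rcases sum_three hE' hsq' with h6 | h6
    · refine ⟨φ, v m φ, hφ.1, hw1, ?_, fun n hn => eq_of_card_four h hA4 m n hmm hn φ⟩
      rw [ha]
      exact_mod_cast h6
    · refine ⟨ψ, v m ψ, hψ.1, hw2, ?_, fun n hn => eq_of_card_four h hA4 m n hmm hn ψ⟩
      rw [hb]
      exact_mod_cast h6

end Cfsg.Agent.Classification.BSW.Good
end
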